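import Groth.Agent.AgPol.K610.JacAmp
import Groth.Agent.AgPol.K533.FamCore
import Groth.Agent.AgPol.K438.LambdaBC
import Groth.Agent.GIT.K610.MgMap
import Groth.Agent.An.K824.RelDimGeo

/-!
# The Jacobian family of a curve with a section
-/

set_option autoImplicit false
set_option backward.isDefEq.respectTransparency false
universe u

open CategoryTheory CategoryTheory.Limits AlgebraicGeometry Opposite MonoidalCategory CartesianMonoidalCategory MonObj

namespace K610.JacFam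

open Groth.Agent Groth.Agent.Grpsch.PicGrp Groth.Agent.Fga.RigGrp Groth.Agent.Sga7.H732.Hedge
open Groth.Agent.Fga.JacSum K732.PicZero K732.Prim K732.Dual K528.MumZero K732.Transp
open K245.JacGeom K610.JacBC

/-- The principal polarisation attached to the class `ℓ`. -/
def Pol : Prop :=
  ∀ {S C : Scheme.{u}} [IsLocallyNoetherian S] {f : C ⟶ S} {g : ℕ} (_ : 1 ≤ g)
    (_ : ModFun.IsCurveOfGenus g f) [SmoothOfRelativeDimension 1 f] [IsProper f] {σ : S ⟶ C} {hσ : σ ≫ f = 𝟙 S}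
    {J : Over S} [GrpObj J] [IsCommMonObj J] {ξ : Pic (PicF.XT f J)} (_ : AgPol.IsAbSch J g)
    (_ : IsJac f σ hσ J ξ) {α : Over.mk f ⟶ J} (_ : K245.NodeMum.IsAbelS f σ hσ ξ α)
    (L : J.left.Modules) (hL : PicF.IsInvertible L) (_ : RelAmple.IsRelAmple J.hom L)
    (_ : pull (η[J] : 𝟙_ (Over S) ⟶ J).left (mk L hL) = 1)
    (_ : pull (AbDual.bcMap α J) (mumCl J (mk L hL)) = ξ⁻¹),
    ∃ (At : Over S) (_ : GrpObj At) (_ : IsCommMonObj At) (φ : AgPol.DualMap J At),
      AgPol.IsAbSch At g ∧ AbDual.IsDualAV Scheme.fppfPrecoverage J At φ ∧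
      IsIso (K814.MumHom.hom φ (mk L hL)) ∧ AgPol.IsPolarization J At φ (K814.MumHom.hom φ (mk L hL)) ∧
      AgPol.HasDegSq (K814.MumHom.hom φ (mk L hL)) 1

/-- The level structure of level one. -/
theorem isLevelStr_one {S : Scheme.{u}} (X : Over S) [GrpObj X] (g : ℕ) :
    AgPol.IsLevelStr X g 1 (fun _ => η[X]) := by
  have h1 : (η[X] : 𝟙_ (Over S) ⟶ X) = 1 := by
    rw [MonObj.one_eq_one]
  have h2 : ∀ T : Over S, AgPol.torsSet X 1 T = {1} := by
    intro T
    ext x
    change x ^ 1 = 1 ↔ x = 1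
    rw [pow_one]
  refine ⟨fun i => by rw [h1, one_pow], fun Ω _ _ t => ⟨?_, ?_⟩⟩
  · rw [h2]
    have h3 : Subgroup.closure (Set.range fun i : Fin (2 * g) => toUnit (Over.mk t) ≫ η[X]) = ⊥ := by
      rw [Subgroup.closure_eq_bot_iff]
      rintro _ ⟨i, rfl⟩
      change toUnit (Over.mk t) ≫ η[X] = 1
      rw [h1, MonObj.comp_one]
    rw [h3]
    rfl
  · rw [h2, one_pow]
    exact Nat.card_unique

/-- The smooth relative dimension of a curve. -/
theorem smoothOfRelDim {S C : Scheme.{u}} {f : C ⟶ S} {g : ℕ} (hf : ModFun.IsCurveOfGenus g f) :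
    SmoothOfRelativeDimension 1 f := by
  have i1 : Smooth f := hf.1
  refine K824.RelDimGeo.smoothOfRelativeDimension_of_geometric f 1 fun Ω _ _ t => ?_
  have hf' := K245.JacSec.isCurve_of_isPullback hf (IsPullback.of_hasPullback f t)
  have i2 : GeometricallyIrreducible (pullback.snd f t) := hf'.2.2.1
  refine ⟨?_, K995.CurveBasic.dim_eq_one hf'⟩
  have := K995.CurveBasic.isIntegral hf'
  infer_instance

/-- **The Jacobian family.** -/
theorem main' (hP : Pol.{u}) (hN : K245.NodeMum.Node.{u}) : K610.Mg.NodeA0.{u} := by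
  intro Z g hg U hU C hC σ hσ
  have hln : IsLocallyNoetherian U.left := hU.toIsLocallyNoetherian
  obtain ⟨J, gJ, cJ, ξ, hJ, h⟩ := K245.JacSec.exists_jac C.hom hC σ hσ
  have i1 : IsProper C.hom := hC.2.1
  have i2 : SmoothOfRelativeDimension 1 C.hom := smoothOfRelDim hC
  obtain ⟨α, ℓ, hα, h1, hm⟩ := hN U.left C.left hln C.hom g (by omega) hC i2 i1 σ hσ J gJ cJ ξ h
  obtain ⟨L, hL, rfl⟩ := exists_mk ℓ
  have hrel := JacAmp.isRelAmple (by omega) hC hJ h hα hL hm
  obtain ⟨At, _, _, φ, hAt, hD, hiso, hpol, hdeg⟩ := hP (by omega) hC hJ h hα L hL hrel h1 hm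
  have j1 := hJ.smooth
  have j2 := hJ.proper
  have j3 := hJ.geomConnected
  have j4 : GeometricallyIntegral J.hom := K814.AbBasic.geometricallyIntegral J
  let F : AgPol.Fam U g :=
    { X := J
      grp := inferInstance
      Xt := At
      grpt := inferInstance
      φ := φ
      lam := K814.MumHom.hom φ (mk L hL)
      σ := fun _ => η[J] }
  have hF : AgPol.Fam.ok g 1 1 U F :=
    ⟨hJ, inferInstance, inferInstance, hD, hpol, hdeg, isLevelStr_one J g⟩
  refine ⟨F, hF, fun Ω _ _ t a => ⟨K533.FamCore.pull_ok a F hF, ?_⟩⟩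
  obtain ⟨ψ, N, Θ, hΘ, hjac, hNi, hNd, ham, hmu⟩ := JacAmp.geom (by omega) hC hJ h hα hm a.left
  refine ⟨ψ, N, Θ, hjac, hNi, hNd, hΘ, ?_⟩
  refine (K814.MumHom.isLambda_iff (A := Red.bc a.left J) (At := Red.bc a.left At) (AgPol.bcDual a.left J At φ)
    hΘ.1 _).2 ?_
  refine (K814.MumHom.hom_bc hD a.left (mk L hL)).trans ?_
  exact (congrArg (cm (A := Red.bc a.left J) (At := Red.bc a.left At) (AgPol.bcDual a.left J At φ)) hmu).symm

end K610.JacFam
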