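import Groth.Agent.AgPol.K610.JacBC
import Groth.Agent.AgPol.K533.GeomAmple
import Groth.Agent.AgPol.K533.PolBC

/-!
# The class `ℓ` is relatively ample, and is the theta class on the geometric fibres
-/

set_option autoImplicit false
set_option backward.isDefEq.respectTransparency false
universe u

open CategoryTheory CategoryTheory.Limits AlgebraicGeometry Opposite MonoidalCategory CartesianMonoidalCategory MonObj

namespace K610.JacAmp

open Groth.Agent Groth.Agent.Grpsch.PicGrp Groth.Agent.Fga.RigGrp Groth.Agent.Sga7.H732.Hedge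
open Groth.Agent.Fga.JacSum K732.PicZero K732.Prim K732.Dual K528.MumZero K732.Transp
open K245.JacGeom K610.JacBC

/-- `JacFam.exists_theta` for a morphism. -/
theorem exists_theta' {k : Type u} [Field k] [IsAlgClosed k] {C : Scheme.{u}} {f : C ⟶ Spec (CommRingCat.of k)}
    [hp : IsProper f] [hs : Smooth f] [hc : GeometricallyConnected f] [h1 : SmoothOfRelativeDimension 1 f]
    (hdim : topologicalKrullDim ↥C = 1)
    {σ : Spec (CommRingCat.of k) ⟶ C} {hσ : σ ≫ f = 𝟙 (Spec (CommRingCat.of k))}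
    {J : Over (Spec (CommRingCat.of k))} [GrpObj J] [IsCommMonObj J] {ξ : Pic (PicF.XT f J)}
    (h : IsJac f σ hσ J ξ) {α : Over.mk f ⟶ J} (hα : K245.NodeMum.IsAbelS f σ hσ ξ α)
    {g : ℕ} (hf : ModFun.IsCurveOfGenus g f) (hg1 : 1 ≤ g) (hJ : AgPol.IsAbSch J g) {c : Pic J.left}
    (hmu : pull (AbDual.bcMap α J) (mumCl J c) = ξ⁻¹) :
    ∃ (N : C.Modules) (Θ : J.left.Modules) (hΘ : Jac.IsThetaLB f 0 (K532.Fine.psi hdim h) N Θ),
      PicF.IsInvertible N ∧
      (letI : C.Over (Spec (CommRingCat.of k)) := ⟨f⟩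
       Curv2.deg k C N 1 = (g : ℤ) - 1) ∧
      CohB1.IsAmple Θ ∧ mumCl J (mk Θ hΘ.1) = mumCl J c := by
  let _ : C.Over (Spec (CommRingCat.of k)) := ⟨f⟩
  have j1 : IsProper (C ↘ Spec (CommRingCat.of k)) := hp
  have j2 : Smooth (C ↘ Spec (CommRingCat.of k)) := hs
  have j3 : GeometricallyConnected (C ↘ Spec (CommRingCat.of k)) := hc
  have j4 : SmoothOfRelativeDimension 1 (C ↘ Spec (CommRingCat.of k)) := h1
  have hgen : Curv2.genus k C = g := K995.CurveBasic.h1_eq hf
  exact @JacFam.exists_theta k _ _ C _ j1 j2 j3 j4 hdim σ hσ J _ _ ξ h α hα g hgen hg1 hJ c hmu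

variable {S C : Scheme.{u}} {f : C ⟶ S} {g : ℕ} (hg : 1 ≤ g) (hf : ModFun.IsCurveOfGenus g f)
  {σ : S ⟶ C} {hσ : σ ≫ f = 𝟙 S} {J : Over S} [GrpObj J] [IsCommMonObj J] {ξ : Pic (PicF.XT f J)}
  (hJ : AgPol.IsAbSch J g) (h : IsJac f σ hσ J ξ) {α : Over.mk f ⟶ J}

include hg hf hJ h in
/-- The class is the theta class on the geometric fibres. -/
theorem geom [SmoothOfRelativeDimension 1 f] [IsProper f] (hα : K245.NodeMum.IsAbelS f σ hσ ξ α)
    {c : Pic J.left} (hm : pull (AbDual.bcMap α J) (mumCl J c) = ξ⁻¹) {Ω : Type u} [Field Ω] [IsAlgClosed Ω]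
    (t : Spec (CommRingCat.of Ω) ⟶ S) :
    ∃ (ψ : (ModFun.PicDeg (pullback.snd f t) 0).Hom ⊤ (Red.bc t J)) (N : (pullback f t).Modules)
      (Θ : (Red.bc t J).left.Modules) (hΘ : Jac.IsThetaLB (pullback.snd f t) 0 ψ N Θ),
      Jac.IsJacobian (pullback.snd f t) ⊤ (Red.bc t J) ψ ∧ PicF.IsInvertible N ∧
      (letI : (pullback f t).Over (Spec (CommRingCat.of Ω)) := ⟨pullback.snd f t⟩
       Curv2.deg Ω (pullback f t) N 1 = (g : ℤ) - 1) ∧ CohB1.IsAmple Θ ∧
      mumCl (Red.bc t J) (mk Θ hΘ.1) = mumCl (Red.bc t J) (pull (pullback.fst J.hom t) c) := by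
  have hq : IsPullback (pullback.fst f t) (pullback.snd f t) f t := IsPullback.of_hasPullback f t
  have hf' : ModFun.IsCurveOfGenus g (pullback.snd f t) := K245.JacSec.isCurve_of_isPullback hf hq
  have i1 : Smooth f := hf.1
  have i2 : GeometricallyIrreducible f := hf.2.2.1
  have i3 : GeometricallyConnected f := K995.CurveBasic.geometricallyConnected f
  have i4 : Smooth (pullback.snd f t) := hf'.1
  have i5 : IsProper (pullback.snd f t) := hf'.2.1
  have i6 : GeometricallyIrreducible (pullback.snd f t) := hf'.2.2.1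
  have i7 : GeometricallyConnected (pullback.snd f t) := K995.CurveBasic.geometricallyConnected _
  have i8 : SmoothOfRelativeDimension 1 (pullback.snd f t) := by
    have : MorphismProperty.IsStableUnderBaseChange (@SmoothOfRelativeDimension.{u} 1) :=
      smoothOfRelativeDimension_isStableUnderBaseChange 1
    exact MorphismProperty.of_isPullback (P := @SmoothOfRelativeDimension 1) hq ‹_›
  have hdim : topologicalKrullDim ↥(pullback f t) = 1 := K995.CurveBasic.dim_eq_one hf'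
  have hjac := isJac_bc (K245.JacSec.dim_fiber hf) hq (hσ' := sec_snd t hσ) (sec_fst t hσ) h
  have hab := isAbelS_bc t hσ hα
  have hmb := mum_bc t hm
  have hJ' : AgPol.IsAbSch (Red.bc t J) g := K533.PolBC.isAbSch_bc t hJ
  obtain ⟨N, Θ, hΘ, hN, hdeg, ham, hmu⟩ := exists_theta' hdim hjac hab hf' hg hJ' hmb
  exact ⟨_, N, Θ, hΘ, isJacobian hdim hjac, hN, hdeg, ham, hmu⟩

include hg hf hJ h in
/-- The class is relatively ample. -/
theorem isRelAmple [SmoothOfRelativeDimension 1 f] [IsProper f] (hα : K245.NodeMum.IsAbelS f σ hσ ξ α)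
    {L : J.left.Modules} (hL : PicF.IsInvertible L)
    (hm : pull (AbDual.bcMap α J) (mumCl J (mk L hL)) = ξ⁻¹) : RelAmple.IsRelAmple J.hom L := by
  have i1 := hJ.smooth
  have i2 := hJ.proper
  refine K533.GeomAmple.isRelAmple_of_geom J.hom L hL fun Ω _ _ t => ?_
  obtain ⟨ψ, N, Θ, hΘ, -, -, -, ham, hmu⟩ := geom hg hf hJ h hα hm t
  have hJ' : AgPol.IsAbSch (Red.bc t J) g := K533.PolBC.isAbSch_bc t hJ
  have i3 : IsProper (Red.bc t J).hom := hJ'.proper
  have i4 : GeometricallyIntegral (Red.bc t J).hom := K451.Prod.geometricallyIntegral_of_isAbSch hJ'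
  exact JacFam.isAmple_of_mumCl (J := Red.bc t J) ham (Fdesc.LocGen.isInvertible_pullback _ hL)
    ((congrArg (mumCl (Red.bc t J)) (pull_mk (pullback.fst J.hom t) hL).symm).trans hmu.symm)

end K610.JacAmp
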