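import Groth.Agent.AgPol.K610.JacField
import Groth.Agent.PicF.K247.GclBC

/-!
# Base change of the Abel map and of the class `ℓ`

`b : S' ⟶ S` any morphism, `f : C ⟶ S` a curve with a section `σ`, `J` its Jacobian.

* `sec` : the section of the base change;
* `isAbelS_bc` : the base change of the Abel map is the Abel map;
* `mum_bc` : the relation between the Mumford class and the universal class is stable under base change.
-/

set_option autoImplicit false
set_option backward.isDefEq.respectTransparency false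
universe u

open CategoryTheory CategoryTheory.Limits AlgebraicGeometry Opposite MonoidalCategory CartesianMonoidalCategory MonObj

namespace K610.JacBC

open Groth.Agent Groth.Agent.Grpsch.PicGrp Groth.Agent.Fga.RigGrp Groth.Agent.Sga7.H732.Hedge
open Groth.Agent.Fga.JacSum K732.PicZero K732.Prim K732.Dual K528.MumZero K732.Transp
open Groth.Agent.Sga7.H734.JacBC K245.JacGeom Groth.Agent.Sga3B.BcPts

variable {S S' C : Scheme.{u}} (b : S' ⟶ S) {f : C ⟶ S} {σ : S ⟶ C} (hσ : σ ≫ f = 𝟙 S)

/-- The section of the base change. -/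
noncomputable def sec : S' ⟶ pullback f b := pullback.lift (b ≫ σ) (𝟙 S') (by
  rw [Category.assoc, hσ, Category.comp_id, Category.id_comp])

theorem sec_fst : sec b hσ ≫ pullback.fst f b = b ≫ σ := pullback.lift_fst _ _ _

theorem sec_snd : sec b hσ ≫ pullback.snd f b = 𝟙 S' := pullback.lift_snd _ _ _

theorem io_eq (T : Over S') : io (IsPullback.of_hasPullback f b) T = K247.BC.cmp f b T := by
  apply pullback.hom_ext
  · exact (io_fst _ T).trans (K247.BC.cmp_fst f b T).symm
  · have h1 := io_snd (IsPullback.of_hasPullback f b) T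
    have h2 := K247.BC.cmp_snd f b T
    exact h1.trans h2.symm

theorem pull_io_norm {C' : Scheme.{u}} {q : C' ⟶ C} {f' : C' ⟶ S'} (hq : IsPullback q f' f b)
    {σ' : S' ⟶ C'} (hσ' : σ' ≫ f' = 𝟙 S') (hσσ : σ' ≫ q = b ≫ σ) (T : Over S')
    (c : Pic (PicF.XT f ((Over.map b).obj T))) :
    pull (io hq T) (norm f σ hσ _ c) = norm f' σ' hσ' T (pull (io hq T) c) := by
  rw [norm_apply, norm_apply, map_div, ← pull_comp, ← pull_comp, ← pull_comp, ← pull_comp,
    ← sec_io hq σ hσ σ' hσ' hσσ T]
  congr 2
  have h := io_snd hq T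
  rw [← Category.assoc, h]

section acl

variable [SmoothOfRelativeDimension 1 f] [IsSeparated f] [SmoothOfRelativeDimension 1 (pullback.snd f b)]

theorem pull_io_acl {T : Over S'} (x : Pt (pullback.snd f b) T) :
    pull (io (IsPullback.of_hasPullback f b) T) (acl f σ hσ (K247.GclBC.dnPt f b x)) =
      acl (pullback.snd f b) (sec b hσ) (sec_snd b hσ) x := by
  rw [acl, pull_io_norm b hσ (IsPullback.of_hasPullback f b) (sec_snd b hσ) (sec_fst b hσ), map_mul, map_inv, acl,
    io_eq]
  have h1 := K247.GclBC.pull_cmp_gcl f b x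
  have h2 := K247.GclBC.pull_cmp_gcl f b (Pt.ofSection (sec_snd b hσ) T)
  have h3 : K247.GclBC.dnPt f b (Pt.ofSection (sec_snd b hσ) T) = Pt.ofSection hσ (K247.BC.dn b T) := by
    apply Subtype.ext
    change (T.hom ≫ sec b hσ) ≫ pullback.fst f b = (T.hom ≫ b) ≫ σ
    rw [Category.assoc, sec_fst, Category.assoc]
  rw [h3] at h2
  erw [h1, h2]

end acl

theorem bcPr_left (J : Over S) : (bcPr b J).left = pullback.fst J.hom b := by
  simp [bcPr, bcEquiv, Adjunction.homEquiv_counit]

variable {J : Over S}

/-- The base change of the Abel map. -/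
noncomputable def al (α : Over.mk f ⟶ J) : Over.mk (pullback.snd f b) ⟶ Red.bc b J := (Over.pullback b).map α

theorem al_fst (α : Over.mk f ⟶ J) : (al b α).left ≫ pullback.fst J.hom b = pullback.fst f b ≫ α.left :=
  pullback.lift_fst _ _ _

section main

variable [SmoothOfRelativeDimension 1 f] [IsSeparated f] [SmoothOfRelativeDimension 1 (pullback.snd f b)]

/-- The base change of the Abel map is the Abel map. -/
theorem isAbelS_bc {ξ : Pic (PicF.XT f J)} {α : Over.mk f ⟶ J} (hα : K245.NodeMum.IsAbelS f σ hσ ξ α) :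
    K245.NodeMum.IsAbelS (pullback.snd f b) (sec b hσ) (sec_snd b hσ)
      (bcCls (IsPullback.of_hasPullback f b) ξ) (al b α) := by
  intro T z
  rw [bcCls, ← cc_comp]
  have e : (Over.map b).map (K245.NodeMum.ptHom z ≫ al b α) ≫ bcPr b J =
      K245.NodeMum.ptHom (K247.GclBC.dnPt f b z) ≫ α := by
    apply Over.OverMorphism.ext
    rw [Over.comp_left, Over.comp_left, bcPr_left]
    change (z.1 ≫ (al b α).left) ≫ pullback.fst J.hom b = (z.1 ≫ pullback.fst f b) ≫ α.left
    rw [Category.assoc, al_fst, Category.assoc]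
  rw [e, cc_eq]
  have h1 := hα _ (K247.GclBC.dnPt f b z)
  have h2 := pull_io_acl b hσ z
  refine (congrArg (pull (io (IsPullback.of_hasPullback f b) T)) h1).trans h2

end main

/-- The relation between the Mumford class and the universal class is stable under base change. -/
theorem mum_bc [GrpObj J] {ξ : Pic (PicF.XT f J)} {α : Over.mk f ⟶ J} {c : Pic J.left}
    (hc : pull (AbDual.bcMap α J) (mumCl J c) = ξ⁻¹) :
    pull (AbDual.bcMap (al b α) (Red.bc b J)) (mumCl (Red.bc b J) (pull (pullback.fst J.hom b) c)) =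
      (bcCls (IsPullback.of_hasPullback f b) ξ)⁻¹ := by
  rw [← K814.MumHom.bcXi_mum b c, K732.BC.bcXi_apply, K732.BC.bcE, bcCls, cc, ← map_inv, ← hc, ← pull_comp,
    ← pull_comp]
  refine Eq.trans ?_ (pull_comp (io (IsPullback.of_hasPullback f b) (Red.bc b J) ≫ PicF.XTmap f (bcPr b J))
    (AbDual.bcMap α J) (mumCl J c))
  refine pull_eq ?_ _
  apply pullback.hom_ext
  · have e1 : io (IsPullback.of_hasPullback f b) (Red.bc b J) ≫ pullback.fst f ((Over.map b).obj (Red.bc b J)).hom =
      pullback.fst (pullback.snd f b) (Red.bc b J).hom ≫ pullback.fst f b := io_fst _ _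
    have e2 : PicF.XTmap f (bcPr b J) ≫ pullback.fst f J.hom = pullback.fst f _ := XTmap_fst f (bcPr b J)
    have e3 : AbDual.bcMap α J ≫ pullback.fst J.hom J.hom = pullback.fst f J.hom ≫ α.left := bcMap_fst α J
    have e4 : PicF.XTmap J.hom (K732.BC.prj b J) ≫ pullback.fst J.hom J.hom = pullback.fst J.hom _ :=
      XTmap_fst J.hom (K732.BC.prj b J)
    have e5 : (K732.BC.iso b J (Red.bc b J)).hom ≫ pullback.fst J.hom (K732.BC.dn b (Red.bc b J)).hom =
      pullback.fst (Red.bc b J).hom (Red.bc b J).hom ≫ pullback.fst J.hom b := K732.BC.iso_hom_fst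
    have e6 : AbDual.bcMap (al b α) (Red.bc b J) ≫ pullback.fst (Red.bc b J).hom (Red.bc b J).hom =
      pullback.fst (pullback.snd f b) (Red.bc b J).hom ≫ (al b α).left := bcMap_fst (al b α) (Red.bc b J)
    have e7 := al_fst b α
    calc _ = AbDual.bcMap (al b α) (Red.bc b J) ≫ (K732.BC.iso b J (Red.bc b J)).hom ≫
          PicF.XTmap J.hom (K732.BC.prj b J) ≫ pullback.fst J.hom J.hom := by
          simp only [Category.assoc]
      _ = (AbDual.bcMap (al b α) (Red.bc b J) ≫ pullback.fst (Red.bc b J).hom (Red.bc b J).hom) ≫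
          pullback.fst J.hom b := by
          rw [e4, Category.assoc]
          exact congrArg (AbDual.bcMap (al b α) (Red.bc b J) ≫ ·) e5
      _ = pullback.fst (pullback.snd f b) (Red.bc b J).hom ≫ pullback.fst f b ≫ α.left := by
          rw [e6, Category.assoc, e7]
      _ = (io (IsPullback.of_hasPullback f b) (Red.bc b J) ≫
            pullback.fst f ((Over.map b).obj (Red.bc b J)).hom) ≫ α.left := by
          rw [e1, Category.assoc]
      _ = io (IsPullback.of_hasPullback f b) (Red.bc b J) ≫
            PicF.XTmap f (bcPr b J) ≫ pullback.fst f J.hom ≫ α.left := by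
          rw [Category.assoc, reassoc_of% e2]
      _ = _ := by
          rw [← e3]
          simp only [Category.assoc]
  · have e1 : io (IsPullback.of_hasPullback f b) (Red.bc b J) ≫ PicF.XTproj f ((Over.map b).obj (Red.bc b J)) =
      PicF.XTproj (pullback.snd f b) (Red.bc b J) := io_snd _ _
    have e2 : PicF.XTmap f (bcPr b J) ≫ PicF.XTproj f J = PicF.XTproj f _ ≫ (bcPr b J).left :=
      XTmap_XTproj f (bcPr b J)
    have e3 : AbDual.bcMap α J ≫ PicF.XTproj J.hom J = PicF.XTproj f J := bcMap_XTproj α J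
    have e4 : PicF.XTmap J.hom (K732.BC.prj b J) ≫ PicF.XTproj J.hom J =
      PicF.XTproj J.hom _ ≫ (K732.BC.prj b J).left := XTmap_XTproj J.hom (K732.BC.prj b J)
    have e5 : (K732.BC.iso b J (Red.bc b J)).hom ≫ PicF.XTproj J.hom (K732.BC.dn b (Red.bc b J)) =
      PicF.XTproj (Red.bc b J).hom (Red.bc b J) := K732.BC.iso_hom_snd
    have e6 : AbDual.bcMap (al b α) (Red.bc b J) ≫ PicF.XTproj (Red.bc b J).hom (Red.bc b J) =
      PicF.XTproj (pullback.snd f b) (Red.bc b J) := bcMap_XTproj (al b α) (Red.bc b J)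
    rw [bcPr_left] at e2
    change _ ≫ PicF.XTproj J.hom J = _ ≫ PicF.XTproj J.hom J
    calc _ = AbDual.bcMap (al b α) (Red.bc b J) ≫ (K732.BC.iso b J (Red.bc b J)).hom ≫
          PicF.XTmap J.hom (K732.BC.prj b J) ≫ PicF.XTproj J.hom J := by
          simp only [Category.assoc]
      _ = (AbDual.bcMap (al b α) (Red.bc b J) ≫ PicF.XTproj (Red.bc b J).hom (Red.bc b J)) ≫
          pullback.fst J.hom b := by
          rw [e4, Category.assoc, ← e5, Category.assoc]
          rfl
      _ = (io (IsPullback.of_hasPullback f b) (Red.bc b J) ≫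
            PicF.XTproj f ((Over.map b).obj (Red.bc b J))) ≫ pullback.fst J.hom b := by
          rw [e6, e1]
      _ = io (IsPullback.of_hasPullback f b) (Red.bc b J) ≫
            PicF.XTmap f (bcPr b J) ≫ PicF.XTproj f J := by
          rw [Category.assoc, e2]
      _ = _ := by
          rw [← e3]
          simp only [Category.assoc]

end K610.JacBC
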