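import Groth.Agent.JacVar.K532.DualAbel
import Groth.Agent.BunMod.K957.ThetaLBJ
import Groth.Agent.AgPol.K245.NodeMum
import Groth.Agent.AgPol.K814.DualNode
import Groth.Agent.AbVar.K512.PhiSurj

/-!
# The class `ℓ` on the Jacobian, over an algebraically closed field

* `comp_fd` : if the Mumford class of `c` restricts to `ξ⁻¹` on `C × J`, the attached homomorphism followed by the dual
  of the Abel map is the inversion (any base);
* `exists_theta` : over an algebraically closed field there is a theta line bundle with the same Mumford class as `c`;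
* `isAmple_of_mumCl` : a class with the Mumford class of an ample class is ample.
-/

set_option autoImplicit false
set_option backward.isDefEq.respectTransparency false
universe u

open CategoryTheory CategoryTheory.Limits AlgebraicGeometry Opposite MonoidalCategory CartesianMonoidalCategory MonObj

namespace K610.JacFam

open Groth.Agent Groth.Agent.Grpsch.PicGrp Groth.Agent.Fga.RigGrp Groth.Agent.Sga7.H732.Hedge
open Groth.Agent.Fga.JacSum K732.PicZero K732.Prim K732.Dual K528.MumZero K732.Transp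

section rel

variable {S C : Scheme.{u}} {f : C ⟶ S} {σ : S ⟶ C} {hσ : σ ≫ f = 𝟙 S}
  {J At : Over S} [GrpObj J] {ξ : Pic (PicF.XT f J)} (h : IsJac f σ hσ J ξ)

theorem deg_pull [QuasiCompact f] [IsSeparated f] {T T' : Over S} (g : T' ⟶ T) (c : Pic (PicF.XT f T))
    (hc : FGA.HasFibreDegreeZeroCl f T (toCl c)) :
    FGA.HasFibreDegreeZeroCl f T' (toCl (pull (PicF.XTmap f g) c)) := by
  rw [Fga.JacFib.fibStep] at hc ⊢
  intro τ
  rw [Fga.JacSurj.chiAt_pull (Fga.JacFib.bcStep f), hc]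
  have h1 := Fga.JacSurj.chiAt_pull (Fga.JacFib.bcStep f) g τ 1
  rw [map_one] at h1
  exact h1.symm

include h in
theorem jac_ext [QuasiCompact f] [IsSeparated f] {T : Over S} {a b : T ⟶ J}
    (e : pull (PicF.XTmap f a) ξ = pull (PicF.XTmap f b) ξ) : a = b := by
  obtain ⟨c, -, hc⟩ := h.univ T (pull (PicF.XTmap f b) ξ) (pull_mem _ h.mem) (deg_pull _ _ h.deg)
  exact (hc a e).trans (hc b rfl).symm

include h in
theorem pull_inv {T : Over S} (a : T ⟶ J) :
    pull (PicF.XTmap f a⁻¹) ξ = (pull (PicF.XTmap f a) ξ)⁻¹ := by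
  have h1 : pull (PicF.XTmap f (1 : T ⟶ J)) ξ = 1 := by
    have := h.mul (1 : T ⟶ J) 1
    rwa [_root_.one_mul, left_eq_mul] at this
  have h2 := h.mul a⁻¹ a
  rw [inv_mul_cancel, h1] at h2
  exact eq_inv_of_mul_eq_one_left h2.symm

include h in
/-- The homomorphism followed by the dual of the Abel map is the inversion. -/
theorem comp_fd [QuasiCompact f] [IsSeparated f] {α : Over.mk f ⟶ J} {ζ : Pic (PicF.XT J.hom At)} {fd : At ⟶ J}
    (hfd : pull (PicF.XTmap f fd) ξ = pull (AbDual.bcMap α At) ζ) {l : J ⟶ At} {c : Pic J.left}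
    (hl : pull (PicF.XTmap J.hom l) ζ = mumCl J c) (hc : pull (AbDual.bcMap α J) (mumCl J c) = ξ⁻¹) :
    l ≫ fd = (𝟙 J)⁻¹ := by
  apply jac_ext h
  have e := pull_bcMap_XTmap α l ζ
  rw [XTmap_comp, pull_comp, hfd, pull_inv h, XTmap_id, pull_id, ← hc, ← hl]
  exact e.symm

end rel

section field

open K532.UnitBase K532.CurvePic K532.CurvePts K532.Dict K532.Setup K532.Wr Groth.Agent.Picfga.ChiDef

variable {k : Type u} [Field k] [IsAlgClosed k] {C : Scheme.{u}} [C.Over (Spec (CommRingCat.of k))]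
  [IsProper (C ↘ Spec (CommRingCat.of k))] [Smooth (C ↘ Spec (CommRingCat.of k))]
  [GeometricallyConnected (C ↘ Spec (CommRingCat.of k))]
  [SmoothOfRelativeDimension 1 (C ↘ Spec (CommRingCat.of k))] (hdim : topologicalKrullDim ↥C = 1)
  {σ : Spec (CommRingCat.of k) ⟶ C} {hσ : σ ≫ (C ↘ Spec (CommRingCat.of k)) = 𝟙 (Spec (CommRingCat.of k))}
  {J : Over (Spec (CommRingCat.of k))} [GrpObj J] [IsCommMonObj J]
  {ξ : Pic (PicF.XT (C ↘ Spec (CommRingCat.of k)) J)}
  (h : IsJac (C ↘ Spec (CommRingCat.of k)) σ hσ J ξ)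

omit [SmoothOfRelativeDimension 1 (C ↘ Spec (CommRingCat.of k))] in
include hdim in
/-- There is an invertible module of degree `g - 1`. -/
theorem exists_N {g : ℕ} (hg1 : 1 ≤ g) (σ : Spec (CommRingCat.of k) ⟶ C)
    (hσ : σ ≫ (C ↘ Spec (CommRingCat.of k)) = 𝟙 (Spec (CommRingCat.of k))) :
    ∃ (N : C.Modules) (_ : PicF.IsInvertible N), Curv2.deg k C N 1 = (g : ℤ) - 1 := by
  have hX := isCurve_of_isAlgClosed k C (K532.Base.isSmoothProperCurve (C ↘ Spec (CommRingCat.of k)) hdim)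
  obtain ⟨N, hN, hNc⟩ := exists_mk ((pcl hX ⟨σ, hσ⟩)⁻¹ ^ (g - 1))
  refine ⟨N, hN, ?_⟩
  rw [← deg_mk k C hdim hN, ← hNc, deg_pow hX, deg_inv hX, deg_pcl]
  push_cast [Nat.cast_sub hg1]
  ring

variable {α : Over.mk (C ↘ Spec (CommRingCat.of k)) ⟶ J}
  (hα : K245.NodeMum.IsAbelS (C ↘ Spec (CommRingCat.of k)) σ hσ ξ α)

include hdim h hα in
/-- The Abel map sends the base point to the origin. -/
theorem hbase : (Over.homMk σ hσ : 𝟙_ (Over (Spec (CommRingCat.of k))) ⟶ Over.mk (C ↘ Spec (CommRingCat.of k))) ≫ α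
    = 1 := by
  have hX := isCurve_of_isAlgClosed k C (K532.Base.isSmoothProperCurve (C ↘ Spec (CommRingCat.of k)) hdim)
  have hj : IsAbel h α := fun T z => hα T z
  apply kcl_injective h
  have := kcl_pm hX h hj ⟨σ, hσ⟩
  rw [inv_mul_cancel] at this
  rw [map_one]
  exact this

omit [SmoothOfRelativeDimension 1 (C ↘ Spec (CommRingCat.of k))] [IsCommMonObj J] [IsAlgClosed k]
  [Smooth (C ↘ Spec (CommRingCat.of k))] [GeometricallyConnected (C ↘ Spec (CommRingCat.of k))] in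
theorem compat : Compat (C ↘ Spec (CommRingCat.of k)) hdim σ hσ J (K532.Fine.psi hdim h) ξ :=
  fun _ _ hT hL => K532.Fine.pull_psi hdim h hT hL

include hdim h hα in
/-- **The theta divisor with the same Mumford class.** -/
theorem exists_theta {g : ℕ} (hg : Curv2.genus k C = g) (hg1 : 1 ≤ g) (hJ : AgPol.IsAbSch J g) {c : Pic J.left}
    (hc : pull (AbDual.bcMap α J) (mumCl J c) = ξ⁻¹) :
    ∃ (N : C.Modules) (Θ : J.left.Modules)
      (hΘ : Jac.IsThetaLB (C ↘ Spec (CommRingCat.of k)) 0 (K532.Fine.psi hdim h) N Θ),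
      PicF.IsInvertible N ∧ Curv2.deg k C N 1 = (g : ℤ) - 1 ∧
      CohB1.IsAmple Θ ∧ mumCl J (mk Θ hΘ.1) = mumCl J c := by
  have i1 := hJ.smooth
  have i2 := hJ.proper
  have i3 : GeometricallyIntegral J.hom := K451.Prod.geometricallyIntegral_of_isAbSch hJ
  have i4 : GeometricallyConnected J.hom := K814.Fibre.geomConn _
  have hjac := K245.JacGeom.isJacobian hdim h
  obtain ⟨N, hN, hNdeg⟩ := exists_N hdim hg1 σ hσ
  obtain ⟨Θ, hΘ⟩ := BunMod.K957.ThetaLBJ.exists_thetaLB k C hdim g hg hg1 N hN hNdeg J _ hjac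
  have hample := K532.ThetaAmple.theta_ample hdim hjac g hg hg1 N hN hNdeg Θ hΘ
  refine ⟨N, Θ, hΘ, hN, hNdeg, hample, ?_⟩
  obtain ⟨Jt, _, _, φ, ζ, hAt, hD, h1, h2, h3, -, -⟩ :=
    K814.DualNode.exists_dual hJ hΘ.1 (Ega2.RelAmp.isRelAmple_iff_isAmple.2 hample)
  have hb := hbase hdim h hα
  obtain ⟨fd, hfd1, hfd⟩ := K532.DualAbel.exists_fd h hD h1 h2 h3 hdim hb
  have hF := K732.CubeSec.bijective_XTproj J.hom
  have hn : chiK (C ↘ Spec (CommRingCat.of k)) (𝟙 (Spec (CommRingCat.of k))) 1 + (g : ℤ) = 1 := by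
    rw [K914.Curve.chiK_one, hg]
    ring
  have hNd : K914.HField.dK (C ↘ Spec (CommRingCat.of k)) (𝟙 (Spec (CommRingCat.of k)))
      (K533.Cst.cst (C ↘ Spec (CommRingCat.of k)) (Over.mk (𝟙 _)) (mk N hN)) = (g : ℤ) - 1 := by
    have h1 := K531.ThetaLoc.chiK_pull_fst (C := C) (𝟙 (Spec (CommRingCat.of k))) (mk N hN)
    rw [K532.CurvePic.deg_mk k C hdim, hNdeg] at h1
    exact h1
  have hl : AgPol.IsLambda J Jt φ Θ (K814.MumHom.hom φ (mk Θ hΘ.1)) :=
    (K814.MumHom.isLambda_iff φ hΘ.1 _).2 rfl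
  have hm : IsMonHom (K814.MumHom.hom φ (mk Θ hΘ.1)) := K533.ThetaDual.isMonHom_lam hD hF h1 h2 h3 hΘ.1 hl
  have e1 := K533.ThetaDual.lam_comp_fd h (K533.ThetaLocus.compatCl_of_compat (compat hdim h)) (fun T z => hα T z)
    hN hn hNd hΘ hD h1 h2 h3 hl hfd hdim
  have e2 := K533.ThetaDual.pull_lam hD hF h1 h2 h3 hΘ.1 hl
  have e3 : fd ≫ K814.MumHom.hom φ (mk Θ hΘ.1) = (𝟙 Jt)⁻¹ := K533.DualKer.fd_comp_l hD h1 h2 h3 _ e2 e1
  have e4 : pull (PicF.XTmap J.hom (K814.MumHom.hom φ c)) ζ = mumCl J c :=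
    (eq_pull_poinc hD hF h1 h2 h3 (K814.MumHom.mum_pz c) (K533.ThetaDual.mumCl_mem_rg c)).symm
  have e5 := comp_fd h hfd e4 hc
  have e6 : (K814.MumHom.hom φ c)⁻¹ = (K814.MumHom.hom φ (mk Θ hΘ.1))⁻¹ := by
    have : (K814.MumHom.hom φ c ≫ fd) ≫ K814.MumHom.hom φ (mk Θ hΘ.1) =
        K814.MumHom.hom φ c ≫ fd ≫ K814.MumHom.hom φ (mk Θ hΘ.1) := Category.assoc _ _ _
    rw [e5, e3, GrpObj.comp_inv, Category.comp_id, GrpObj.inv_comp, Category.id_comp] at this
    exact this.symm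
  rw [← e2, ← e4, inv_injective e6]

end field

section ample

open Groth.Agent.Grpsch.Cube K512.Phi

variable {k : Type u} [Field k] [IsAlgClosed k] {J : Over (Spec (CommRingCat.of k))} [GrpObj J]
  [IsProper J.hom] [GeometricallyIntegral J.hom]

omit [IsProper J.hom] [GeometricallyIntegral J.hom] [IsAlgClosed k] in
theorem tr_inv (x : 𝟙_ (Over (Spec (CommRingCat.of k))) ⟶ J) : tr x ≫ tr x⁻¹ = 𝟙 J := by
  rw [tr, tr, MonObj.comp_mul, Category.comp_id, ← Category.assoc, comp_toUnit, GrpObj.comp_inv, _root_.mul_assoc,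
    mul_inv_cancel, _root_.mul_one]

theorem aux {G : Type*} [CommGroup G] (a b c d e f : G) :
    (a * b) * (c * d)⁻¹ * (e * f)⁻¹ = (a * c⁻¹ * e⁻¹) * (b * d⁻¹ * f⁻¹) := by
  simp only [mul_inv]
  ac_rfl

theorem mumCl_mul {S : Scheme.{u}} (A : Over S) [GrpObj A] (a b : Pic A.left) :
    mumCl A (a * b) = mumCl A a * mumCl A b := by
  rw [mumCl, mumCl, mumCl, map_mul, map_mul, map_mul]
  exact aux _ _ _ _ _ _

omit [IsAlgClosed k] [IsProper J.hom] [GeometricallyIntegral J.hom] in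
/-- A class with trivial Mumford class is translation invariant. -/
theorem pl_tr_of_mumCl {m : Pic J.left} (hm : mumCl J m = 1) (x : 𝟙_ (Over (Spec (CommRingCat.of k))) ⟶ J) :
    pl (tr x) m = m := by
  have h1 := pull_lift_mumCl J m (𝟙 J) (toUnit J ≫ x)
  have h2 : pull (toUnit J ≫ x).left m = 1 := by
    rw [Over.comp_left, pull_comp]
    have : pull x.left m = 1 := pic_spec_local k _
    rw [this, map_one]
  have h3 : pull (𝟙 J : J ⟶ J).left m = m := pull_id m
  rw [hm, map_one, h2, h3, inv_one, _root_.mul_one, eq_comm, mul_inv_eq_one] at h1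
  exact h1

/-- A class with the Mumford class of an ample class is ample. -/
theorem isAmple_of_mumCl {L M : J.left.Modules} (hL : CohB1.IsAmple L) (hM : PicF.IsInvertible M)
    (h : mumCl J (mk M hM) = mumCl J (mk L hL.1)) : CohB1.IsAmple M := by
  have h1 : mumCl J (mk M hM * (mk L hL.1)⁻¹) = 1 := by
    have h2 := mumCl_mul J (mk M hM * (mk L hL.1)⁻¹) (mk L hL.1)
    rw [inv_mul_cancel_right, h, right_eq_mul] at h2
    exact h2
  obtain ⟨x, hx⟩ := K512.PhiSurj.exists_eq_of_isAmple L hL _ (pl_tr_of_mumCl h1)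
  have h3 := mul_right_cancel hx
  have h4 : pl (tr x) (mk L hL.1) = mk _ (Groth.Agent.Fdesc.LocGen.isInvertible_pullback _ hL.1) :=
    pull_mk (tr x).left hL.1
  rw [h4, mk_eq_iff] at h3
  obtain ⟨e⟩ := h3
  have h5 : tr x ≫ tr x⁻¹ = 𝟙 J := tr_inv x
  have h6 : tr x⁻¹ ≫ tr x = 𝟙 J := by
    have := tr_inv x⁻¹
    rwa [inv_inv] at this
  have h7 : IsIso (tr x).left := ⟨(tr x⁻¹).left, by rw [← Over.comp_left, h5, Over.id_left],
    by rw [← Over.comp_left, h6, Over.id_left]⟩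
  exact (Models2.AmplePull.isAmple_iff_of_iso e).1 (Models2.AmplePull.isAmple_pullback _ hL)

end ample

end K610.JacFam
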